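import Mathlib

/-!
# Fixed-point counts determine the numbers of points with a given stabiliser
-/

set_option autoImplicit false
set_option linter.style.haveILetI false
set_option linter.unusedSectionVars false

namespace Cfsg.Agent.Lib.DolfiReduce20

variable {A : Type*} [Group A] [Finite A]

/-- The points fixed by every element of `B`. -/
noncomputable def fixCount (X : Type*) [MulAction A X] (B : Subgroup A) : ℕ :=
  Nat.card {x : X // ∀ b ∈ B, b • x = x}

theorem fixCount_eq_sum (X : Type*) [MulAction A X] [Finite X] (B : Subgroup A)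
    [Fintype {C : Subgroup A // B ≤ C}] :
    fixCount X B =
      ∑ C : {C : Subgroup A // B ≤ C},
        Nat.card {x : X // MulAction.stabilizer A x = C.1} := by
  rw [← Nat.card_sigma]
  refine Nat.card_congr
    { toFun := fun x => ⟨⟨MulAction.stabilizer A x.1, fun b hb => x.2 b hb⟩, x.1, rfl⟩
      invFun := fun z => ⟨z.2.1, fun b hb => by
        have h : b ∈ MulAction.stabilizer A z.2.1 := z.2.2.symm ▸ z.1.2 hb
        exact h⟩
      left_inv := fun x => rfl
      right_inv := fun z => Sigma.subtype_ext (Subtype.ext z.2.2) rfl }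

/-- Equal fixed-point counts give equal numbers of points with each stabiliser. -/
theorem card_stabilizer_eq {X Y : Type*} [MulAction A X] [MulAction A Y] [Finite X] [Finite Y]
    (h : ∀ B : Subgroup A, fixCount X B = fixCount Y B) (B : Subgroup A) :
    Nat.card {x : X // MulAction.stabilizer A x = B} =
      Nat.card {y : Y // MulAction.stabilizer A y = B} := by
  classical
  induction B using WellFoundedGT.induction with
  | _ B ih =>
    haveI := Fintype.ofFinite {C : Subgroup A // B ≤ C}
    have h1 := h B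
    rw [fixCount_eq_sum, fixCount_eq_sum, ← Finset.add_sum_erase _ _ (Finset.mem_univ ⟨B, le_rfl⟩),
      ← Finset.add_sum_erase _ _ (Finset.mem_univ ⟨B, le_rfl⟩)] at h1
    rwa [Finset.sum_congr rfl fun C hC => ih C.1 (lt_of_le_of_ne C.2 fun he =>
      (Finset.mem_erase.mp hC).1 (Subtype.ext he.symm)), Nat.add_right_cancel_iff] at h1

theorem fixCount_prod (X Y : Type*) [MulAction A X] [MulAction A Y] (B : Subgroup A) :
    fixCount (X × Y) B = fixCount X B * fixCount Y B := by
  unfold fixCount
  rw [← Nat.card_prod]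
  exact Nat.card_congr
    { toFun := fun z => (⟨z.1.1, fun b hb => congrArg Prod.fst (z.2 b hb)⟩,
        ⟨z.1.2, fun b hb => congrArg Prod.snd (z.2 b hb)⟩)
      invFun := fun w => ⟨(w.1.1, w.2.1), fun b hb => Prod.ext (w.1.2 b hb) (w.2.2 b hb)⟩
      left_inv := fun z => rfl
      right_inv := fun w => rfl }

/-- A free orbit on pairs passes between actions with equal fixed-point counts. -/
theorem exists_pair_of_fixCount_eq {X Y : Type*} [MulAction A X] [MulAction A Y] [Finite X]
    [Finite Y] (h : ∀ B : Subgroup A, fixCount X B = fixCount Y B)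
    (hY : ∃ v w : Y, ∀ a : A, a • v = v → a • w = w → a = 1) :
    ∃ v w : X, ∀ a : A, a • v = v → a • w = w → a = 1 := by
  obtain ⟨v, w, hvw⟩ := hY
  have hst : MulAction.stabilizer A (v, w) = ⊥ := (Subgroup.eq_bot_iff_forall _).mpr fun a ha =>
    hvw a (congrArg Prod.fst ha) (congrArg Prod.snd ha)
  have hc := card_stabilizer_eq (A := A) (X := X × X) (Y := Y × Y)
    (fun B => by rw [fixCount_prod, fixCount_prod, h]) ⊥
  haveI : Nonempty {y : Y × Y // MulAction.stabilizer A y = ⊥} := ⟨⟨(v, w), hst⟩⟩
  have hpos : 0 < Nat.card {x : X × X // MulAction.stabilizer A x = ⊥} := by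
    rw [hc]; exact Nat.card_pos
  obtain ⟨⟨⟨x, y⟩, hxy⟩⟩ := (Nat.card_pos_iff.mp hpos).1
  exact ⟨x, y, fun a hx hy =>
    (Subgroup.eq_bot_iff_forall _).mp hxy a (Prod.ext hx hy)⟩

/-- Equal fixed-point counts preserve faithfulness. -/
theorem faithful_of_fixCount_eq {X Y : Type*} [MulAction A X] [MulAction A Y] [Finite X] [Finite Y]
    [FaithfulSMul A X] (h : ∀ B : Subgroup A, fixCount X B = fixCount Y B) :
    FaithfulSMul A Y := by
  refine ⟨fun {a b} hab => ?_⟩
  let B := Subgroup.zpowers (b⁻¹ * a)
  have hY : fixCount Y B = Nat.card Y := by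
    refine Nat.card_congr (Equiv.subtypeUnivEquiv fun y c hc => ?_)
    obtain ⟨i, rfl⟩ := Subgroup.mem_zpowers_iff.mp hc
    exact (MulAction.stabilizer A y).zpow_mem
      (show (b⁻¹ * a) • y = y by rw [mul_smul, hab, inv_smul_smul]) i
  have hXY : Nat.card X = Nat.card Y := by
    have h0 : ∀ (Z : Type _) [MulAction A Z], fixCount Z (⊥ : Subgroup A) = Nat.card Z := fun Z _ =>
      Nat.card_congr (Equiv.subtypeUnivEquiv fun z c hc => by
        rw [Subgroup.mem_bot.mp hc, one_smul])
    rw [← h0 X, h ⊥]
    exact Nat.card_congr (Equiv.subtypeUnivEquiv fun z c hc => by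
      rw [Subgroup.mem_bot.mp hc, one_smul])
  have hall : ∀ x : X, ∀ c ∈ B, c • x = x := by
    intro x
    by_contra hx
    exact absurd ((h B).trans (hY.trans hXY.symm)) (Finite.card_subtype_lt (x := x) hx).ne
  refine (inv_mul_eq_one.mp (FaithfulSMul.eq_of_smul_eq_smul fun x : X => ?_)).symm
  rw [one_smul]
  exact hall x _ (Subgroup.mem_zpowers _)

end Cfsg.Agent.Lib.DolfiReduce20
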