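import Mathlib
import Cfsg.Agent.Lib.Coprime.Glauberman
import Cfsg.Agent.Lib.Coprime.Sylow
import Cfsg.Agent.Lib.Coprime.Semidirect
import Cfsg.Agent.Lib.Coprime.Aut
import Cfsg.Agent.Lib.Coprime.FixedProduct

/-!
# Fixed-point orders under coprime action: Sylow parts and normal series
-/

set_option autoImplicit false
set_option linter.style.haveILetI false
set_option linter.unusedSectionVars false

namespace Cfsg.Agent.Lib.DolfiReduce20

open Cfsg.Agent.Lib

variable {A K : Type*} [Group A] [Group K]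

/-- The subgroup of elements fixed by `B`. -/
def fixSubgroup (φ : A →* MulAut K) (B : Subgroup A) : Subgroup K where
  carrier := {k | ∀ b ∈ B, φ b k = k}
  one_mem' := fun b _ => map_one (φ b)
  mul_mem' := fun {k l} hk hl b hb => by rw [map_mul, hk b hb, hl b hb]
  inv_mem' := fun {k} hk b hb => by rw [map_inv, hk b hb]

variable [Finite A] [Finite K]

/-- Fixed points split along an invariant normal subgroup. -/
theorem card_fix_split (φ : A →* MulAut K) (hcop : (Nat.card A).Coprime (Nat.card K))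
    (hsol : Group.IsSolvable A) (N : Subgroup K) [N.Normal] (hN : ∀ a, ∀ x ∈ N, φ a x ∈ N)
    (B : Subgroup A) :
    Nat.card (fixSubgroup φ B) =
      Nat.card (fixSubgroup (Coprime.subAut φ N hN) B) *
        Nat.card (fixSubgroup (Coprime.quotAut φ N hN) B) := by
  let f : fixSubgroup φ B →* K ⧸ N := (QuotientGroup.mk' N).comp (fixSubgroup φ B).subtype
  have hker : Nat.card f.ker = Nat.card (fixSubgroup (Coprime.subAut φ N hN) B) := by
    refine Nat.card_congr
      { toFun := fun k => ⟨⟨k.1, (QuotientGroup.eq_one_iff _).mp k.2⟩,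
          fun a ha => Subtype.ext (k.1.2 a ha)⟩
        invFun := fun v => ⟨⟨v.1, fun a ha => congrArg Subtype.val (v.2 a ha)⟩,
          (QuotientGroup.eq_one_iff _).mpr v.1.2⟩
        left_inv := fun k => rfl
        right_inv := fun v => rfl }
  have hrange : f.range = fixSubgroup (Coprime.quotAut φ N hN) B := by
    refine le_antisymm ?_ fun q hq => ?_
    · rintro _ ⟨k, rfl⟩ a ha
      show ((φ a (k : K) : K) : K ⧸ N) = ((k : K) : K ⧸ N)
      rw [k.2 a ha]
    · obtain ⟨k₀, hk₀⟩ := QuotientGroup.mk_surjective q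
      letI : MulAction B {k : K // (k : K ⧸ N) = q} :=
        { smul := fun a k => ⟨φ a.1 k.1, by
            have h1 : Coprime.quotAut φ N hN a.1 (k.1 : K ⧸ N) = (k.1 : K ⧸ N) := by
              rw [k.2]; exact hq a.1 a.2
            exact h1.trans k.2⟩
          one_smul := fun k => Subtype.ext (by show φ ((1 : B) : A) k.1 = k.1; simp)
          mul_smul := fun a b k => Subtype.ext (by
            show φ ((a * b : B) : A) k.1 = φ a.1 (φ b.1 k.1); simp) }
      letI : MulAction N {k : K // (k : K ⧸ N) = q} :=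
        { smul := fun v k => ⟨v.1 * k.1, by
            rw [QuotientGroup.mk_mul, (QuotientGroup.eq_one_iff _).mpr v.2, one_mul, k.2]⟩
          one_smul := fun k => Subtype.ext (one_mul k.1)
          mul_smul := fun u v k => Subtype.ext (mul_assoc u.1 v.1 k.1) }
      haveI : MulAction.IsPretransitive N {k : K // (k : K ⧸ N) = q} := ⟨fun x y =>
        ⟨⟨y.1 * x.1⁻¹, (QuotientGroup.eq_one_iff _).mp (by
          rw [QuotientGroup.mk_mul, QuotientGroup.mk_inv, x.2, y.2, mul_inv_cancel])⟩,
          Subtype.ext (inv_mul_cancel_right y.1 x.1)⟩⟩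
      haveI : Nonempty {k : K // (k : K ⧸ N) = q} := ⟨⟨k₀, hk₀⟩⟩
      haveI := hsol
      obtain ⟨k, hk⟩ := Coprime.exists_fixed_point ((Coprime.subAut φ N hN).comp B.subtype)
        (X := {k : K // (k : K ⧸ N) = q})
        (fun a v k => Subtype.ext (map_mul (φ a.1) v.1 k.1))
        ((hcop.coprime_dvd_left (Subgroup.card_subgroup_dvd_card B)).coprime_dvd_right
          (Subgroup.card_subgroup_dvd_card N))
        (Or.inl inferInstance) inferInstance
      exact ⟨⟨k.1, fun a ha => congrArg Subtype.val (hk ⟨a, ha⟩)⟩, k.2⟩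
  rw [← hker, ← hrange, ← Subgroup.index_ker]
  exact f.ker.card_mul_index.symm

/-- The `p`-part of a fixed-point order is seen in an invariant Sylow subgroup. -/
theorem card_fix_sylow (φ : A →* MulAut K) (hcop : (Nat.card A).Coprime (Nat.card K))
    (hsol : Group.IsSolvable A) {p : ℕ} [Fact p.Prime] (P : Sylow p K)
    (hP : ∀ a, ∀ x ∈ (P : Subgroup K), φ a x ∈ (P : Subgroup K)) (B : Subgroup A) :
    Nat.card (fixSubgroup (Coprime.subAut φ (P : Subgroup K) hP) B) =
      p ^ (Nat.card (fixSubgroup φ B)).factorization p := by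
  let C := fixSubgroup φ B
  let D : Subgroup K := (P : Subgroup K) ⊓ C
  have hD : Nat.card (fixSubgroup (Coprime.subAut φ (P : Subgroup K) hP) B) = Nat.card D :=
    Nat.card_congr
      { toFun := fun x => ⟨x.1.1, x.1.2, fun b hb => congrArg Subtype.val (x.2 b hb)⟩
        invFun := fun x => ⟨⟨x.1, x.2.1⟩, fun b hb => Subtype.ext (x.2.2 b hb)⟩
        left_inv := fun x => rfl
        right_inv := fun x => rfl }
  obtain ⟨Q⟩ := (inferInstance : Nonempty (Sylow p C))
  -- inside the semidirect product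
  let ψ : B →* MulAut K := φ.comp B.subtype
  haveI : Finite (K ⋊[ψ] B) := Finite.of_equiv _ SemidirectProduct.equivProd.symm
  let i : K →* K ⋊[ψ] B := SemidirectProduct.inl
  let Ā : Subgroup (K ⋊[ψ] B) := (SemidirectProduct.inr : B →* K ⋊[ψ] B).range
  have hAK : Ā ≤ Subgroup.normalizer ((i.range : Subgroup (K ⋊[ψ] B)) : Set (K ⋊[ψ] B)) :=
    Coprime.inr_range_le_normalizer ψ
  let e : K ≃* i.range := MonoidHom.ofInjective SemidirectProduct.inl_injective
  have hmap : (((P.comapOfInjective e.symm.toMonoidHom e.symm.injective (by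
      rw [MonoidHom.range_eq_top.mpr e.symm.surjective]; exact le_top) : Sylow p i.range) :
      Subgroup i.range).map i.range.subtype : Subgroup (K ⋊[ψ] B)) = (P : Subgroup K).map i := by
    ext z
    constructor
    · rintro ⟨w, hw, rfl⟩
      exact ⟨e.symm w, hw, congrArg Subtype.val (e.apply_symm_apply w)⟩
    · rintro ⟨k, hk, rfl⟩
      exact ⟨e k, show e.symm (e k) ∈ (P : Subgroup K) by rwa [e.symm_apply_apply], rfl⟩
  have hP' : Ā ≤ Subgroup.normalizer (((P : Subgroup K).map i : Subgroup (K ⋊[ψ] B)) :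
      Set (K ⋊[ψ] B)) := Coprime.inr_range_le_normalizer_map ψ fun a x hx => hP a.1 x hx
  have hU : Ā ≤ Subgroup.normalizer
      ((((Q : Subgroup C).map C.subtype).map i : Subgroup (K ⋊[ψ] B)) : Set (K ⋊[ψ] B)) :=
    Coprime.inr_range_le_normalizer_map ψ fun a x hx => by
      obtain ⟨y, hy, rfl⟩ := hx
      exact ⟨y, hy, (y.2 a.1 a.2).symm⟩
  haveI := hsol
  obtain ⟨c, ⟨⟨c₀, rfl⟩, hcA⟩, hconj⟩ := Coprime.exists_centralizer_conj_le (p := p) hAK
    (by
      rw [Coprime.card_inr_range, Coprime.card_range_inl]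
      exact hcop.coprime_dvd_left (Subgroup.card_subgroup_dvd_card B))
    (Or.inl (Group.isSolvable_of_surjective
      (SemidirectProduct.inr : B →* K ⋊[ψ] B).rangeRestrict_surjective))
    (P := P.comapOfInjective e.symm.toMonoidHom e.symm.injective (by
      rw [MonoidHom.range_eq_top.mpr e.symm.surjective]; exact le_top))
    (by rw [hmap]; exact hP') (U := ((Q : Subgroup C).map C.subtype).map i)
    (Subgroup.map_le_range i _) ((Q.2.map _).map _) hU
  rw [hmap] at hconj
  have hc₀ : c₀ ∈ C := fun b hb => ((Coprime.mem_centralizer_inr_iff ψ).mp hcA) ⟨b, hb⟩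
  let g : ↥((Q : Subgroup C)) → D := fun x => ⟨c₀ * (x.1 : K) * c₀⁻¹, by
    obtain ⟨k, hk, hk'⟩ := hconj (i (x.1 : K)) (Subgroup.mem_map_of_mem i
      (Subgroup.mem_map_of_mem C.subtype x.2))
    rw [← map_inv, ← map_mul, ← map_mul] at hk'
    exact SemidirectProduct.inl_injective hk' ▸ hk,
    C.mul_mem (C.mul_mem hc₀ x.1.2) (C.inv_mem hc₀)⟩
  have hle : Nat.card ↥(Q : Subgroup C) ≤ Nat.card D :=
    Nat.card_le_card_of_injective g fun x y h => by
      have h1 := congrArg Subtype.val h
      exact Subtype.ext (Subtype.ext (mul_right_injective c₀ (mul_left_injective c₀⁻¹ h1)))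
  obtain ⟨m, hm⟩ := IsPGroup.iff_card.mp (P.2.to_le (inf_le_left : D ≤ P))
  have hdvd : Nat.card D ∣ p ^ (Nat.card C).factorization p := by
    rw [hm]
    refine pow_dvd_pow p ((Fact.out : p.Prime).pow_dvd_iff_le_factorization Nat.card_pos.ne' |>.mp ?_)
    exact hm ▸ Subgroup.card_dvd_of_le inf_le_right
  rw [hD]
  exact le_antisymm (Nat.le_of_dvd (pow_pos (Fact.out : p.Prime).pos _) hdvd)
    (Q.card_eq_multiplicity ▸ hle)

end Cfsg.Agent.Lib.DolfiReduce20
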