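import Mathlib
import Cfsg.Agent.Lib.DolfiReduce20.Count
import Cfsg.Agent.Lib.DolfiReduce20.Fixed

/-!
# A coprime action of a solvable group has the fixed-point counts of a semisimple module
-/

set_option autoImplicit false
set_option linter.style.haveILetI false
set_option linter.unusedSectionVars false

namespace Cfsg.Agent.Lib.DolfiReduce20

open Cfsg.Agent.Lib

universe u v

variable {A : Type v} [Group A] [Finite A]

/-- Every invariant subgroup has an invariant complement. -/
def Semi (A : Type v) (V : Type u) [Group A] [AddCommGroup V] [DistribMulAction A V] : Prop :=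
  ∀ U : AddSubgroup V, (∀ a : A, ∀ x ∈ U, a • x ∈ U) →
    ∃ W : AddSubgroup V, (∀ a : A, ∀ x ∈ W, a • x ∈ W) ∧ U ⊓ W = ⊥ ∧ U ⊔ W = ⊤

theorem semi_prod {V W : Type u} [AddCommGroup V] [AddCommGroup W] [DistribMulAction A V]
    [DistribMulAction A W] (hV : Semi A V) (hW : Semi A W) : Semi A (V × W) := by
  intro U hU
  obtain ⟨W1, hW1, hd1, hs1⟩ := hV (U.comap (AddMonoidHom.inl V W)) fun a x hx => by
    show (a • x, (0 : W)) ∈ U
    have h := hU a _ hx
    simpa [Prod.smul_def] using h
  obtain ⟨W2, hW2, hd2, hs2⟩ := hW (U.map (AddMonoidHom.snd V W)) fun a y hy => by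
    obtain ⟨z, hz, rfl⟩ := hy
    exact ⟨a • z, hU a z hz, rfl⟩
  refine ⟨W1.prod W2, fun a z hz => ⟨hW1 a _ hz.1, hW2 a _ hz.2⟩, ?_, ?_⟩
  · rw [eq_bot_iff]
    rintro ⟨x, y⟩ ⟨hU', hx, hy⟩
    have hy0 : y = 0 := by
      have : y ∈ U.map (AddMonoidHom.snd V W) ⊓ W2 := ⟨⟨(x, y), hU', rfl⟩, hy⟩
      rwa [hd2, AddSubgroup.mem_bot] at this
    subst hy0
    have hx0 : x ∈ U.comap (AddMonoidHom.inl V W) ⊓ W1 := ⟨hU', hx⟩
    rw [hd1, AddSubgroup.mem_bot] at hx0
    subst hx0
    exact rfl
  · rw [eq_top_iff]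
    rintro ⟨x, y⟩ -
    obtain ⟨_, ⟨⟨a, b⟩, hab, rfl⟩, w2, hw2, hy⟩ :=
      AddSubgroup.mem_sup.mp (hs2 ▸ AddSubgroup.mem_top y)
    obtain ⟨u1, hu1, w1, hw1, hx⟩ :=
      AddSubgroup.mem_sup.mp (hs1 ▸ AddSubgroup.mem_top (x - a))
    refine AddSubgroup.mem_sup.mpr ⟨(a, b) + (u1, 0), U.add_mem hab hu1, (w1, w2), ⟨hw1, hw2⟩, ?_⟩
    simp only [AddMonoidHom.coe_snd] at hy
    ext
    · simp only [Prod.fst_add, add_assoc, hx, add_sub_cancel]
    · simpa using hy

/-- `f` is the fixed-point count of some coprime semisimple module. -/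
def Good (A : Type v) [Group A] (f : Subgroup A → ℕ) : Prop :=
  ∃ (V : Type u) (_ : AddCommGroup V) (_ : Finite V) (_ : DistribMulAction A V),
    Semi A V ∧ (Nat.card A).Coprime (Nat.card V) ∧ ∀ B, fixCount V B = f B

theorem good_one : Good.{u} A fun _ => 1 := by
  letI : DistribMulAction A PUnit.{u + 1} :=
    { smul := fun _ x => x
      one_smul := fun _ => rfl
      mul_smul := fun _ _ _ => rfl
      smul_zero := fun _ => rfl
      smul_add := fun _ _ _ => rfl }
  refine ⟨PUnit.{u + 1}, inferInstance, inferInstance, inferInstance, fun U _ => ⟨⊤,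
    fun a x _ => trivial, Subsingleton.elim _ _, Subsingleton.elim _ _⟩, ?_, fun B => ?_⟩
  · rw [Nat.card_unique (α := PUnit.{u + 1})]; exact Nat.coprime_one_right _
  · haveI : Nonempty {x : PUnit.{u + 1} // ∀ b ∈ B, b • x = x} := ⟨⟨PUnit.unit, fun _ _ => rfl⟩⟩
    exact Nat.card_unique

theorem good_mul {f g : Subgroup A → ℕ} (hf : Good.{u} A f) (hg : Good.{u} A g) :
    Good.{u} A fun B => f B * g B := by
  obtain ⟨V, _, _, _, hV, hVc, hVf⟩ := hf
  obtain ⟨W, _, _, _, hW, hWc, hWg⟩ := hg
  exact ⟨V × W, inferInstance, inferInstance, inferInstance, semi_prod hV hW,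
    by rw [Nat.card_prod]; exact hVc.mul_right hWc,
    fun B => by rw [fixCount_prod, hVf, hWg]⟩

theorem good_congr {f g : Subgroup A → ℕ} (hf : Good.{u} A f) (h : ∀ B, f B = g B) :
    Good.{u} A g := by
  rwa [← funext h]

/-- Elementary abelian groups. -/
theorem good_elementary {E : Type u} [Group E] [Finite E] (φ : A →* MulAut E) {p : ℕ}
    (hp : p.Prime) (hc : ∀ x y : E, x * y = y * x) (he : ∀ x : E, x ^ p = 1)
    (hcop : (Nat.card A).Coprime (Nat.card E)) :
    Good.{u} A fun B => Nat.card (fixSubgroup φ B) := by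
  letI : CommGroup E := { (inferInstance : Group E) with mul_comm := hc }
  letI : DistribMulAction A (Additive E) :=
    { smul := fun a x => Additive.ofMul (φ a x.toMul)
      one_smul := fun x => by
        show Additive.ofMul (φ 1 x.toMul) = x
        simp
      mul_smul := fun a b x => by
        show Additive.ofMul (φ (a * b) x.toMul) = Additive.ofMul (φ a (φ b x.toMul))
        simp
      smul_zero := fun a => by
        show Additive.ofMul (φ a 1) = 0
        simp
      smul_add := fun a x y => by
        show Additive.ofMul (φ a (x + y).toMul) = _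
        rw [toMul_add, map_mul]
        rfl }
  refine ⟨Additive E, inferInstance, inferInstance, inferInstance, fun U hU => ?_, ?_, fun B => ?_⟩
  · obtain ⟨W, hW, hd, hs⟩ := Coprime.exists_invariant_complement φ hp hc he hcop
      (AddSubgroup.toSubgroup' U) fun a x hx => hU a (Additive.ofMul x) hx
    refine ⟨Subgroup.toAddSubgroup W, fun a x hx => hW a x.toMul hx, ?_, ?_⟩
    · have := congrArg Subgroup.toAddSubgroup hd
      rwa [map_inf, map_bot, OrderIso.apply_symm_apply] at this
    · have := congrArg Subgroup.toAddSubgroup hs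
      rwa [map_sup, map_top, OrderIso.apply_symm_apply] at this
  · rwa [Nat.card_congr Additive.toMul]
  · exact Nat.card_congr
      { toFun := fun x => ⟨x.1.toMul, fun b hb => congrArg Additive.toMul (x.2 b hb)⟩
        invFun := fun x => ⟨Additive.ofMul x.1, fun b hb => congrArg Additive.ofMul (x.2 b hb)⟩
        left_inv := fun x => rfl
        right_inv := fun x => rfl }

/-- `p`-groups. -/
theorem good_pgroup (hsol : Group.IsSolvable A) {p : ℕ} [hp : Fact p.Prime] :
    ∀ (n : ℕ) (P : Type u) [Group P] [Finite P], Nat.card P ≤ n → IsPGroup p P →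
      (Nat.card A).Coprime (Nat.card P) → ∀ φ : A →* MulAut P,
        Good.{u} A fun B => Nat.card (fixSubgroup φ B) := by
  intro n
  induction n with
  | zero =>
    intro P _ _ hle
    exact absurd Nat.card_pos (by omega : ¬ 0 < Nat.card P)
  | succ n ih =>
    intro P _ _ hle hP hcop φ
    rcases subsingleton_or_nontrivial P with hs | hs
    · exact good_congr good_one fun B => (Nat.card_unique (α := fixSubgroup φ B)).symm
    haveI := hP.center_nontrivial
    let N : Subgroup P :=
      { carrier := {x | x ∈ Subgroup.center P ∧ x ^ p = 1}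
        one_mem' := ⟨one_mem _, one_pow p⟩
        mul_mem' := fun {x y} hx hy => ⟨mul_mem hx.1 hy.1, by
          rw [Commute.mul_pow ((Subgroup.mem_center_iff.mp hy.1 x)), hx.2, hy.2, one_mul]⟩
        inv_mem' := fun {x} hx => ⟨inv_mem hx.1, by rw [inv_pow, hx.2, inv_one]⟩ }
    haveI : N.Normal := ⟨fun x hx g => by
      rwa [Subgroup.mem_center_iff.mp hx.1 g, mul_inv_cancel_right]⟩
    have hN : ∀ a, ∀ x ∈ N, φ a x ∈ N := fun a x hx => by
      refine ⟨Subgroup.mem_center_iff.mpr fun g => ?_, by rw [← map_pow, hx.2, map_one]⟩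
      obtain ⟨h, rfl⟩ := (φ a).surjective g
      rw [← map_mul, ← map_mul, Subgroup.mem_center_iff.mp hx.1 h]
    have hdvd : p ∣ Nat.card (Subgroup.center P) := by
      obtain ⟨k, hk⟩ := IsPGroup.iff_card.mp (hP.to_subgroup (Subgroup.center P))
      rcases k with _ | k
      · exact absurd (hk.trans (pow_zero p)) Finite.one_lt_card.ne'
      · exact hk ▸ dvd_pow_self p (Nat.succ_ne_zero k)
    obtain ⟨z, hz⟩ := exists_prime_orderOf_dvd_card' (G := Subgroup.center P) p hdvd
    have hzN : (z : P) ∈ N := ⟨z.2, by rw [← Subgroup.coe_pow, ← hz, pow_orderOf_eq_one]; rfl⟩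
    have hN1 : N ≠ ⊥ := fun h => by
      have h1 : z = 1 := Subtype.ext (Subgroup.mem_bot.mp (h ▸ hzN))
      rw [h1, orderOf_one] at hz
      exact hp.out.ne_one hz.symm
    have hlt : Nat.card (P ⧸ N) ≤ n := by
      have h1 : 1 < Nat.card N := (Subgroup.one_lt_card_iff_ne_bot N).mpr hN1
      have h2 := N.card_mul_index
      rw [Subgroup.index_eq_card] at h2
      have h3 : 0 < Nat.card (P ⧸ N) := Nat.card_pos
      have : 2 * Nat.card (P ⧸ N) ≤ n + 1 := le_trans (h2 ▸ Nat.mul_le_mul_right _ h1) hle
      omega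
    refine good_congr (good_mul
      (good_elementary (Coprime.subAut φ N hN) hp.out
        (fun x y => Subtype.ext (Subgroup.mem_center_iff.mp y.2.1 x.1))
        (fun x => Subtype.ext (by rw [Subgroup.coe_pow]; exact x.2.2))
        (hcop.coprime_dvd_right (Subgroup.card_subgroup_dvd_card N)))
      (ih (P ⧸ N) hlt (hP.to_quotient N)
        (hcop.coprime_dvd_right (Subgroup.card_quotient_dvd_card N)) (Coprime.quotAut φ N hN)))
      fun B => (card_fix_split φ hcop hsol N hN B).symm

/-- The reduction. -/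
theorem exists_module (hsol : Group.IsSolvable A) (K : Type u) [Group K] [Finite K]
    [MulDistribMulAction A K] (hcop : (Nat.card A).Coprime (Nat.card K)) :
    ∃ (V : Type u) (_ : AddCommGroup V) (_ : Finite V) (_ : DistribMulAction A V),
      Semi A V ∧ (Nat.card A).Coprime (Nat.card V) ∧
      (∀ B : Subgroup A, fixCount K B = fixCount V B) ∧
      Nat.card V = Nat.card K := by
  classical
  let φ := MulDistribMulAction.toMulAut A K
  have key : ∀ S : Finset ℕ, (∀ p ∈ S, p.Prime) →
      Good.{u} A fun B => ∏ p ∈ S, p ^ (Nat.card (fixSubgroup φ B)).factorization p := by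
    intro S
    induction S using Finset.induction_on with
    | empty => exact fun _ => good_congr good_one fun B => by simp
    | insert p S hpS ih =>
      intro hS
      haveI : Fact p.Prime := ⟨hS p (Finset.mem_insert_self p S)⟩
      obtain ⟨P, hP⟩ := Coprime.exists_smul_invariant_sylow (A := A) (G := K) hcop (Or.inl hsol) p
      refine good_congr (good_mul
        (good_pgroup hsol (p := p) _ (P : Subgroup K) le_rfl P.2
          (hcop.coprime_dvd_right (Subgroup.card_subgroup_dvd_card _))
          (Coprime.subAut φ (P : Subgroup K) hP))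
        (ih fun q hq => hS q (Finset.mem_insert_of_mem hq))) fun B => ?_
      rw [Finset.prod_insert hpS, card_fix_sylow φ hcop hsol P hP B]
  obtain ⟨V, i1, i2, i3, hsemi, hVc, hfix⟩ := key (Nat.card K).primeFactors
    fun p hp => Nat.prime_of_mem_primeFactors hp
  have heq : ∀ B : Subgroup A, fixCount K B = fixCount V B := fun B => by
    have h1 : fixCount K B = Nat.card (fixSubgroup φ B) := rfl
    have h2 := Nat.prod_factorization_pow_eq_self (Nat.card_pos (α := fixSubgroup φ B)).ne'
    rw [hfix B, h1]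
    conv_lhs => rw [← h2]
    rw [Finsupp.prod]
    refine Finset.prod_subset ?_ fun p _ hp => by rw [Finsupp.notMem_support_iff.mp hp, pow_zero]
    rw [Nat.support_factorization]
    exact Nat.primeFactors_mono (Subgroup.card_subgroup_dvd_card _) Nat.card_pos.ne'
  refine ⟨V, i1, i2, i3, hsemi, hVc, heq, ?_⟩
  have h0 := heq ⊥
  unfold fixCount at h0
  rwa [Nat.card_congr (Equiv.subtypeUnivEquiv fun (x : K) c hc => by
      rw [Subgroup.mem_bot.mp hc, one_smul]),
    Nat.card_congr (Equiv.subtypeUnivEquiv fun (x : V) c hc => by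
      rw [Subgroup.mem_bot.mp hc, one_smul]), eq_comm] at h0

/-- Dolfi's statement for a coprime action follows from the module case. -/
theorem exists_pair (hsol : Group.IsSolvable A) (K : Type u) [Group K] [Finite K]
    [MulDistribMulAction A K] [FaithfulSMul A K] (hcop : (Nat.card A).Coprime (Nat.card K))
    (hmod : ∀ (V : Type u) [AddCommGroup V] [Finite V] [DistribMulAction A V] [FaithfulSMul A V],
      Semi A V → (Nat.card A).Coprime (Nat.card V) → Nat.card V = Nat.card K →
      ∃ v w : V, ∀ a : A, a • v = v → a • w = w → a = 1) :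
    ∃ x y : K, ∀ a : A, a • x = x → a • y = y → a = 1 := by
  obtain ⟨V, i1, i2, i3, hsemi, hVc, heq, hcard⟩ := exists_module hsol K hcop
  haveI := faithful_of_fixCount_eq heq
  exact exists_pair_of_fixCount_eq heq (hmod V hsemi hVc hcard)

end Cfsg.Agent.Lib.DolfiReduce20
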